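import Cfsg.Agent.SuzInvol.Pair

/-!
A group of Suzuki-sporadic type has exactly two classes of involutions.
-/

set_option autoImplicit false
set_option linter.style.haveILetI false

namespace CfsgLib.SuzInvol

open CfsgLib CfsgLib.Quad Subgroup

variable {G : Type*} [Group G] [Finite G] {z : G} {D : Dat z} (B : Base D)

theorem red_smul_e0 : ∀ t : ZMod 2, red (t • e0) = 0 := by decide +kernel

theorem red_zero : red 0 = 0 := by decide +kernel

theorem exists_move_e0 {e : M6} (he : e ≠ 0) (hq : qf e = 0) :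
    ∃ h ∈ commutator (oGroup q6), h.1 e = e0 := by
  haveI := isPretransitive_spt (Q := q6) nondeg6 (by simp)
  obtain ⟨h, hh⟩ := MulAction.exists_smul_eq ↥(commutator (oGroup q6))
    (spt e he ((q6_eq _).trans hq)) (spt e0 base_facts.2.2.2 ((q6_eq _).trans q_e0))
  rw [smul_spt, spt_eq_iff] at hh
  obtain ⟨a, ha⟩ := hh
  rcases zmod2_cases a with rfl | rfl
  · rw [zero_smul] at ha
    exact absurd ha.symm (iso_ne_zero _ he)
  rw [one_smul] at ha
  exact ⟨h.1, h.2, ha.symm⟩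

theorem Base.sq_P {b : G} (hb : b ∈ B.P) :
    B.InV (b * b) ∧ B.σ (b * b) = qf (B.wv b) ∧ B.ζ (b * b) = 0 := by
  obtain ⟨hadm, hu⟩ := B.act_P hb
  have hp : B.g⁻¹ * b * B.g ∈ D.Q := (mem_conjQ D).1 hb.1
  have hbb : b * b = 1 ∨ b * b = B.s := by
    rcases D.pre.gen.square _ hp with e | e
    · left
      calc b * b = B.g * (B.g⁻¹ * b * B.g * (B.g⁻¹ * b * B.g)) * B.g⁻¹ := by group
        _ = 1 := by rw [e]; group
    · right
      calc b * b = B.g * (B.g⁻¹ * b * B.g * (B.g⁻¹ * b * B.g)) * B.g⁻¹ := by group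
        _ = B.s := by rw [e, B.gz]
  obtain ⟨a0, ha0, ha0π⟩ := D.π_surj f0
  have haz : a0 * z * a0⁻¹ = z := by rw [(D.pre.gen.comm_z a0 ha0).eq, mul_inv_cancel_right]
  have has : a0 * B.s * a0⁻¹ = B.s * z := by
    have hmem : a0 * B.s * a0⁻¹ ∈ D.Q := mul_mem (mul_mem ha0 B.sQ) (inv_mem ha0)
    rcases eq_of_π D B.sQ hmem (by
      rw [D.π_mul _ (mul_mem ha0 B.sQ) _ (inv_mem ha0), D.π_mul _ ha0 _ B.sQ, π_inv D ha0,
        add_comm (D.π a0), add_assoc, add_self, add_zero]) with e | e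
    · exact absurd ((D.comm_iff a0 ha0 _ B.sQ).1 (mul_inv_eq_iff_eq_mul.1 e))
        (by rw [ha0π, B.πs, b_fe]; exact one_ne_zero)
    · exact e
  obtain ⟨w', hw'⟩ : ∃ w', w' = a0 * b * a0⁻¹ * b⁻¹ := ⟨_, rfl⟩
  have hconj : b * a0⁻¹ * b⁻¹ ∈ D.Q := D.pre.conj_mem (B.P_fix hb).1 (inv_mem ha0)
  have hw'e : w' = a0 * (b * a0⁻¹ * b⁻¹) := by rw [hw']; group
  have hw'π : D.π w' = B.wv b := by
    rw [hw'e, D.π_mul _ ha0 _ hconj,
      show D.π (b * a0⁻¹ * b⁻¹) = _ from D.act_π ⟨b, hb.2⟩ a0⁻¹ (inv_mem ha0), π_inv D ha0, ha0π,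
      B.wv_eq hb.2, add_comm]
  have hw'A : w' ∈ B.A := B.mem_A.2 ⟨hw'e ▸ mul_mem ha0 hconj, by rw [hw'π]; exact hadm.1⟩
  have hcm : cm b w' = 1 := by rw [B.cm_eq hb hw'A, hw'π, if_pos (bf_self _)]
  have hcomm : b * w' = w' * b := mul_inv_eq_iff_eq_mul.1 (mul_inv_eq_one.1 hcm)
  have hkey : a0 * (b * b) * a0⁻¹ = w' * w' * (b * b) := by
    calc a0 * (b * b) * a0⁻¹ = w' * b * (w' * b) := by rw [hw']; group
      _ = w' * (b * w') * b := by group
      _ = w' * (w' * b) * b := by rw [hcomm]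
      _ = w' * w' * (b * b) := by group
  obtain ⟨a1, a2, a3, a4, a5, a6⟩ := B.bits
  rcases hbb with e | e
  · rw [e]
    refine ⟨(B.inV_of (Or.inl rfl)).1, ?_, a6⟩
    rw [e, mul_one, mul_one, mul_inv_cancel] at hkey
    have h := (D.sq_iff w' hw'A.1).1 hkey.symm
    rw [hw'π] at h
    rw [a5, h]
  · rw [e]
    refine ⟨(B.inV_of (Or.inr (Or.inr (Or.inl rfl)))).1, ?_, a4⟩
    rw [e, has, (D.pre.gen.comm_z _ B.sQ).eq] at hkey
    have h := (mul_right_cancel hkey).symm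
    have hne : qf (B.wv b) ≠ 0 := fun h0 => D.pre.gen.ne_one (h.symm.trans
      ((D.sq_iff w' hw'A.1).2 (by rw [hw'π]; exact h0)))
    rw [a2, (zmod2_cases _).resolve_left hne]

theorem Base.sq_A {a : G} (ha : a ∈ B.A) :
    B.InV (a * a) ∧ B.σ (a * a) = 0 ∧ B.ζ (a * a) = qf (D.π a) := by
  obtain ⟨a1, a2, a3, a4, a5, a6⟩ := B.bits
  rcases D.pre.gen.square a ha.1 with e | e <;> rw [e]
  · exact ⟨(B.inV_of (Or.inl rfl)).1, a5, by rw [a6, (D.sq_iff a ha.1).1 e]⟩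
  · refine ⟨(B.inV_of (Or.inr (Or.inl rfl))).1, a1, ?_⟩
    have hne : qf (D.π a) ≠ 0 := fun h => D.pre.gen.ne_one (e.symm.trans ((D.sq_iff a ha.1).2 h))
    rw [a3, (zmod2_cases _).resolve_left hne]

theorem Base.prod_sq {b a : G} (hb : b ∈ B.P) (ha : a ∈ B.A) :
    b * a * (b * a) = cm b a * (b * b) * (a * a) ∧
      (b * a * (b * a) = 1 ↔ qf (B.wv b) = bf (D.π a) (B.wv b) ∧ qf (D.π a) = bf (D.π a) (B.wv b)) := by
  have hc := B.A_comm_V ha (B.sq_P hb).1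
  have he : b * a * (b * a) = cm b a * (b * b) * (a * a) := by
    calc b * a * (b * a) = cm b a * (a * (b * b)) * a := by simp only [cm]; group
      _ = cm b a * (b * b * a) * a := by rw [hc]
      _ = cm b a * (b * b) * (a * a) := by group
  refine ⟨he, ?_⟩
  obtain ⟨hV1, hs1, hz1⟩ := B.sq_P hb
  obtain ⟨hV2, hs2, hz2⟩ := B.sq_A ha
  have hV0 := B.cm_mem hb ha
  have hV01 : B.InV (cm b a * (b * b)) := B.meet (mul_mem hV0.1 hV1.1) (mul_mem
    (B.inV_of (B.inV_cases hV0)).2 (B.inV_of (B.inV_cases hV1)).2)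
  have hV012 : B.InV (cm b a * (b * b) * (a * a)) := B.meet (mul_mem hV01.1 hV2.1) (mul_mem
    (B.inV_of (B.inV_cases hV01)).2 (B.inV_of (B.inV_cases hV2)).2)
  have hσ : B.σ (cm b a * (b * b) * (a * a)) = bf (D.π a) (B.wv b) + qf (B.wv b) := by
    rw [(B.bits_add hV01 hV2).1, (B.bits_add hV0 hV1).1, B.σ_cm hb ha, hs1, hs2, add_zero]
  have hζ : B.ζ (cm b a * (b * b) * (a * a)) = bf (D.π a) (B.wv b) + qf (D.π a) := by
    rw [(B.bits_add hV01 hV2).2, (B.bits_add hV0 hV1).2, B.ζ_cm_eq hb a ha, hz1, hz2, add_zero]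
  rw [he]
  constructor
  · intro h
    rw [h, B.bits.2.2.2.2.1] at hσ
    rw [h, B.bits.2.2.2.2.2] at hζ
    exact ⟨(CharTwo.add_eq_zero.1 hσ.symm).symm, (CharTwo.add_eq_zero.1 hζ.symm).symm⟩
  · rintro ⟨h1, h2⟩
    rw [h1] at hσ
    rw [h2] at hζ
    rw [CharTwo.add_self_eq_zero] at hσ hζ
    rw [B.eq_of_bits hV012 0 hσ hζ, if_pos rfl]

/-- Conjugate into the product of the two radical parts. -/
theorem Base.exists_product {x : G} (hx : x ∈ centralizer ({z} : Set G)) (hxQ : x ∉ D.Q)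
    (hx2 : x * x = 1) :
    ∃ c ∈ centralizer ({z} : Set G), ∃ b ∈ B.P, ∃ a ∈ B.A, c * x * c⁻¹ = b * a ∧ red (B.wv b) ≠ 0 := by
  have hgm := D.act_mem ⟨x, hx⟩
  have hg2 : D.act ⟨x, hx⟩ * D.act ⟨x, hx⟩ = 1 := by
    rw [← map_mul, show (⟨x, hx⟩ * ⟨x, hx⟩ : centralizer ({z} : Set G)) = 1 from Subtype.ext hx2, map_one]
  have hg1 : D.act ⟨x, hx⟩ ≠ 1 := fun e => hxQ ((D.act_eq_one ⟨x, hx⟩).1 e)
  obtain ⟨e, he0, heq, hge, htriv⟩ := exists_axis hgm hg2 hg1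
  obtain ⟨h, hh, hhe⟩ := exists_move_e0 he0 heq
  obtain ⟨c, hc⟩ := D.act_surj h hh
  set x' := c * ⟨x, hx⟩ * c⁻¹ with hx'
  have hact : D.act x' = h * D.act ⟨x, hx⟩ * h⁻¹ := by rw [hx', map_mul, map_mul, map_inv, hc]
  have happ : ∀ n, (D.act x').1 (h.1 n) = h.1 ((D.act ⟨x, hx⟩).1 n) := fun n => by
    rw [hact]
    show h.1 ((D.act ⟨x, hx⟩).1 ((h⁻¹ * h).1 n)) = _
    rw [inv_mul_cancel]; rfl
  have hfe : (D.act x').1 e0 = e0 := by rw [← hhe, happ, hge]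
  obtain ⟨hadm, hu⟩ := radical_eq hfe fun m hm => by
    obtain ⟨n, rfl⟩ : ∃ n, h.1 n = m := ⟨_, h.1.apply_symm_apply m⟩
    rw [← hhe, bf_oGroup] at hm
    rw [happ, ← map_add]
    rcases htriv n hm with e' | e' <;> rw [e']
    · left; exact map_zero _
    · right; exact hhe
  obtain ⟨b, hb, hbw⟩ := B.wv_surj hadm
  have hxQ' : (x' : G) ∉ D.Q := fun e' => hg1 (by
    have h1 := (D.act_eq_one x').2 e'
    rw [hact, conj_eq_one_iff] at h1
    exact h1)
  have haQ : b⁻¹ * (x' : G) ∈ D.Q := by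
    refine (D.act_eq_one (⟨b, hb.2⟩⁻¹ * x')).1 ?_
    rw [map_mul, map_inv, inv_mul_eq_one]
    exact Subtype.ext (LinearEquiv.ext fun m => by rw [(B.act_P hb).2, hbw, ← hu])
  obtain ⟨q, hq⟩ : ∃ q, q = b⁻¹ * (x' : G) := ⟨_, rfl⟩
  have hqQ : q ∈ D.Q := hq ▸ haQ
  have hxe : (x' : G) = b * q := by rw [hq, mul_inv_cancel_left]
  have hxx : (x' : G) * (x' : G) = 1 := by
    show (c : G) * x * (c : G)⁻¹ * ((c : G) * x * (c : G)⁻¹) = 1
    rw [show (c : G) * x * (c : G)⁻¹ * ((c : G) * x * (c : G)⁻¹) = (c : G) * (x * x) * (c : G)⁻¹ by group, hx2]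
    group
  have hne : red (B.wv b) ≠ 0 := by
    intro h0
    have hw : B.wv b = 0 := adm_eq (B.act_P hb).1 ⟨bf_zero_left _, by rw [bf_zero_right]; decide +kernel⟩
      (h0.trans red_zero.symm)
    refine hxQ' ?_
    rw [hxe]
    refine mul_mem ((D.act_eq_one ⟨b, hb.2⟩).1 (Subtype.ext (LinearEquiv.ext fun m => ?_))) hqQ
    rw [(B.act_P hb).2, hw]
    simp [uMap, bf_zero_right]
  refine ⟨c, c.2, b, hb, q, B.mem_A.2 ⟨hqQ, ?_⟩, hxe, hne⟩
  obtain ⟨hbV, -, -⟩ := B.sq_P hb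
  have hbqb : b * q * b⁻¹ ∈ D.Q := D.pre.conj_mem (B.P_fix hb).1 hqQ
  have h1 : b * q * b⁻¹ * (b * b) * q = 1 := by
    rw [show b * q * b⁻¹ * (b * b) * q = b * q * (b * q) by group, ← hxe, hxx]
  have h2 := congrArg D.π h1
  rw [D.π_mul _ (mul_mem hbqb hbV.1) _ hqQ, D.π_mul _ hbqb _ hbV.1, π_one,
    show D.π (b * q * b⁻¹) = _ from D.act_π ⟨b, hb.2⟩ q hqQ, (B.act_P hb).2, uMap] at h2
  by_contra hqe
  rw [(zmod2_cases _).resolve_left hqe, one_smul, one_smul] at h2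
  have h3 := congrArg red h2
  have hbbπ : red (D.π (b * b)) = 0 := by
    rcases hbV.2 with e' | e' <;> rw [e']
    exacts [red_zero, red_e0]
  simp only [red_add, red_smul_e0, hbbπ, add_zero, red_zero] at h3
  refine hne ?_
  rw [add_comm (red (D.π q)), add_assoc, add_self, add_zero] at h3
  exact h3

/-- Lying in a conjugate of the kernel whose centre is in the kernel. -/
def Sing (D : Dat z) (x : G) : Prop :=
  ∃ k : G, k * z * k⁻¹ ∈ D.Q ∧ k * z * k⁻¹ ≠ z ∧ x ∈ conjQ D k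

theorem Sing.conj {x : G} (h : Sing D x) {c : G} (hc : c ∈ centralizer ({z} : Set G)) :
    Sing D (c * x * c⁻¹) := by
  obtain ⟨k, hk, hkz, hxk⟩ := h
  have hcz := mem_centralizer_singleton_iff.1 hc
  have e : c * k * z * (c * k)⁻¹ = c * (k * z * k⁻¹) * c⁻¹ := by group
  refine ⟨c * k, e ▸ D.pre.conj_mem hcz hk, fun h' => hkz ?_, ?_⟩
  · rw [e] at h'
    calc k * z * k⁻¹ = c⁻¹ * (c * (k * z * k⁻¹) * c⁻¹) * c := by group
      _ = c⁻¹ * (z * c) := by rw [h']; group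
      _ = z := by rw [← hcz]; group
  · rw [mem_conjQ, show (c * k)⁻¹ * (c * x * c⁻¹) * (c * k) = k⁻¹ * x * k by group]
    exact (mem_conjQ D).1 hxk

include B in
theorem Base.isConj_of_sing {x : G} (h : Sing D x) (hx2 : x * x = 1) (hx1 : x ≠ 1) : IsConj z x := by
  obtain ⟨k, hk, hkz, hxk⟩ := h
  have hq := (mem_conjQ D).1 hxk
  have hq2 : k⁻¹ * x * k * (k⁻¹ * x * k) = 1 := by
    rw [show k⁻¹ * x * k * (k⁻¹ * x * k) = k⁻¹ * (x * x) * k by group, hx2]; group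
  refine IsConj.trans ?_ (isConj_iff.2 ⟨k, show k * (k⁻¹ * x * k) * k⁻¹ = x by group⟩)
  by_cases h0 : D.π (k⁻¹ * x * k) = 0
  · rcases (D.π_eq_zero _ hq).1 h0 with e | e
    · refine absurd ?_ hx1
      calc x = k * (k⁻¹ * x * k) * k⁻¹ := by group
        _ = 1 := by rw [e]; group
    · rw [e]
  · obtain ⟨c, -, hc⟩ := exists_conj_C D B.sQ hq (by rw [B.πs]; exact q_e0) ((D.sq_iff _ hq).1 hq2)
      (by rw [B.πs]; exact base_facts.2.2.2) h0
    exact IsConj.trans (isConj_iff.2 ⟨B.g, B.gz⟩) (isConj_iff.2 ⟨c, hc⟩)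

theorem Base.sing_of_singular {b a : G} (hb : b ∈ B.P) (ha : a ∈ B.A) (hw : red (B.wv b) ≠ 0)
    (hq : qf (B.wv b) = 0) (hsq : b * a * (b * a) = 1) : Sing D (b * a) := by
  obtain ⟨h1, h2⟩ := (B.prod_sq hb ha).2.1 hsq
  obtain ⟨hadm, hu⟩ := B.act_P hb
  have hae := (B.mem_A.1 ha).2
  have hgz : B.g * z * B.g⁻¹ ∈ D.Q ∧ B.g * z * B.g⁻¹ ≠ z := ⟨B.gz.symm ▸ B.sQ, fun e => B.ne (B.gz.symm.trans e)⟩
  rcases singular_orth _ (red_mem _ hadm.1) _ (red_mem _ hae) hw (by rw [qf_red hadm.1, hq])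
      (by rw [qf_red hae, h2, ← h1, hq]) (by rw [bf_red hadm.1 hae, bf_comm, ← h1, hq]) with e | e
  · have hV : B.InV a := ⟨ha.1, by
      rcases red_cases (D.π a) with e' | e' <;> rw [e] at e'
      exacts [Or.inl e', Or.inr (e'.trans (zero_add _))]⟩
    exact ⟨B.g, hgz.1, hgz.2, mul_mem hb.1 (B.inV_of (B.inV_cases hV)).2⟩
  · obtain ⟨a0, ha0, ha0π⟩ := D.π_surj f0
    have haz : a0 * z = z * a0 := (D.pre.gen.comm_z a0 ha0).eq
    have hk : a0 * B.g * z * (a0 * B.g)⁻¹ = a0 * B.s * a0⁻¹ := by rw [← B.gz]; group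
    refine ⟨a0 * B.g, ?_, ?_, ?_⟩
    · rw [hk]; exact mul_mem (mul_mem ha0 B.sQ) (inv_mem ha0)
    · rw [hk]
      intro e'
      refine B.ne ?_
      calc B.s = a0⁻¹ * (a0 * B.s * a0⁻¹) * a0 := by group
        _ = z := by rw [e', mul_assoc, ← haz]; group
    · have hconj : b⁻¹ * a0⁻¹ * b ∈ D.Q := by
        have := D.pre.conj_mem (show Commute b⁻¹ z from (show Commute b z from (B.P_fix hb).1).inv_left).eq
          (inv_mem ha0)
        rwa [inv_inv] at this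
      obtain ⟨y, hy⟩ : ∃ y, y = a0 * (b⁻¹ * a0⁻¹ * b) * a := ⟨_, rfl⟩
      have hyQ : y ∈ D.Q := hy ▸ mul_mem (mul_mem ha0 hconj) ha.1
      have hact : (D.act (⟨b, hb.2⟩⁻¹)).1 f0 = f0 + (B.wv b + bf (B.wv b) (B.wv b) • e0) + qf (B.wv b) • e0 := by
        have hinv : D.act ((⟨b, hb.2⟩ : centralizer ({z} : Set G))⁻¹) = D.act ⟨b, hb.2⟩ := by
          rw [map_inv, inv_eq_iff_mul_eq_one, ← map_mul, D.act_eq_one]
          exact (B.sq_P hb).1.1
        rw [hinv, bf_self, zero_smul, add_zero, hq, zero_smul, add_zero, B.wv_eq hb.2, add_comm, add_assoc,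
          add_self, add_zero]
      rw [bf_self, zero_smul, add_zero, hq, zero_smul, add_zero] at hact
      have hyV : B.InV y := by
        refine ⟨hyQ, ?_⟩
        have hπ : D.π y = B.wv b + D.π a := by
          rw [hy, D.π_mul _ (mul_mem ha0 hconj) _ ha.1, D.π_mul _ ha0 _ hconj,
            show D.π (b⁻¹ * a0⁻¹ * b) = (D.act (⟨b, hb.2⟩⁻¹)).1 (D.π a0⁻¹) by
              rw [← D.act_π _ _ (inv_mem ha0)]; simp [InvMemClass.coe_inv],
            π_inv D ha0, ha0π, hact, ← add_assoc, add_self, zero_add]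
        have hr : red (D.π y) = 0 := by rw [hπ, red_add, e, add_self]
        rcases red_cases (D.π y) with e' | e' <;> rw [hr] at e'
        exacts [Or.inl e', Or.inr (e'.trans (zero_add _))]
      have hVk : ∀ {v : G}, B.InV v → v ∈ conjQ D (a0 * B.g) := by
        intro v hv
        have hv' : a0⁻¹ * v * a0 ∈ D.Q := mul_mem (mul_mem (inv_mem ha0) hv.1) ha0
        have hinv : B.InV (a0⁻¹ * v * a0) := ⟨hv', by
          rw [D.π_mul _ (mul_mem (inv_mem ha0) hv.1) _ ha0, D.π_mul _ (inv_mem ha0) _ hv.1, π_inv D ha0,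
            add_comm (D.π a0), add_assoc, add_self, add_zero]
          exact hv.2⟩
        rw [mem_conjQ, show (a0 * B.g)⁻¹ * v * (a0 * B.g) = B.g⁻¹ * (a0⁻¹ * v * a0) * B.g by group]
        exact (mem_conjQ D).1 (B.inV_of (B.inV_cases hinv)).2
      rw [show b * a = a0 * b * a0⁻¹ * (a0 * (b⁻¹ * a0⁻¹ * b) * a) by group, ← hy]
      refine mul_mem ((mem_conjQ D).2 ?_) (hVk hyV)
      rw [show (a0 * B.g)⁻¹ * (a0 * b * a0⁻¹) * (a0 * B.g) = B.g⁻¹ * b * B.g by group]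
      exact (mem_conjQ D).1 hb.1

include B in
theorem Base.ts_of_sing {x : G} (hx : x ∈ centralizer ({z} : Set G)) (hx2 : x * x = 1)
    (h : Sing D x) : TS (D.act ⟨x, hx⟩) := by
  obtain ⟨k, hk, hkz, hxk⟩ := h
  have hk2 : k * z * k⁻¹ * (k * z * k⁻¹) = 1 := by
    rw [show k * z * k⁻¹ * (k * z * k⁻¹) = k * (z * z) * k⁻¹ by group, D.pre.gen.sq]; group
  obtain ⟨c, hc, hcs⟩ := exists_conj_C D hk B.sQ ((D.sq_iff _ hk).1 hk2) (by rw [B.πs]; exact q_e0)
    (fun e => ((D.π_eq_zero _ hk).1 e).elim (fun e' => D.pre.gen.ne_one (conj_eq_one_iff.1 e')) hkz)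
    (by rw [B.πs]; exact base_facts.2.2.2)
  have hmem : c * x * c⁻¹ ∈ B.P := by
    refine Subgroup.mem_inf.2 ⟨?_, mul_mem (mul_mem hc hx) (inv_mem hc)⟩
    rw [← conjQ_congr D (k := c * k) (k' := B.g) (by rw [B.gz, ← hcs]; group), mem_conjQ,
      show (c * k)⁻¹ * (c * x * c⁻¹) * (c * k) = k⁻¹ * x * k by group]
    exact (mem_conjQ D).1 hxk
  obtain ⟨hadm, hu⟩ := B.act_P hmem
  have hq : qf (B.wv (c * x * c⁻¹)) = 0 := by
    rw [← (B.sq_P hmem).2.1, show c * x * c⁻¹ * (c * x * c⁻¹) = c * (x * x) * c⁻¹ by group, hx2,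
      mul_one, mul_inv_cancel]
    exact B.bits.2.2.2.2.1
  have h' := ts_conj _ (D.act ⟨c, hc⟩)⁻¹ ((ts_uMap hadm.1 hu).2 hq)
  rw [← map_inv, ← map_mul, ← map_inv, ← map_mul] at h'
  convert h' using 2
  refine Subtype.ext ?_
  simp only [Subgroup.coe_mul, InvMemClass.coe_inv]
  group

/-- The standard involution outside the class. -/
structure Std where
  /-- The radical part. -/
  b : G
  /-- The kernel part. -/
  a : G
  hb : b ∈ B.P
  ha : a ∈ B.A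
  wb : B.wv b = w2 + e0
  πa : D.π a = v2

theorem Base.exists_std : Nonempty (Std B) := by
  obtain ⟨h, -⟩ := adm_rep (v := w2) pair_facts.1
  rw [pair_facts.2.2.1, one_smul] at h
  obtain ⟨b, hb, hbw⟩ := B.wv_surj h
  obtain ⟨a, ha, haπ⟩ := D.π_surj v2
  exact ⟨⟨b, a, hb, B.mem_A.2 ⟨ha, by rw [haπ]; exact base_orth.2.2.2.2.2.2.2.2.2.1⟩, hbw, haπ⟩⟩

theorem std_facts : qf (w2 + e0) = 1 ∧ qf v2 = 1 ∧ bf v2 (w2 + e0) = 1 := by decide +kernel

variable {B} (S : Std B)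

/-- The involution. -/
def Std.t : G := S.b * S.a

omit [Finite G] in
theorem Std.t_mem : S.t ∈ centralizer ({z} : Set G) := mul_mem S.hb.2 (mem_C D S.ha.1)

theorem Std.t_sq : S.t * S.t = 1 := by
  refine ((B.prod_sq S.hb S.ha).2).2 ?_
  rw [S.wb, S.πa]
  exact ⟨std_facts.1.trans std_facts.2.2.symm, std_facts.2.1.trans std_facts.2.2.symm⟩

theorem Std.not_ts : ¬ TS (D.act ⟨S.t, S.t_mem⟩) := by
  intro h
  have e : D.act ⟨S.t, S.t_mem⟩ = D.act ⟨S.b, S.hb.2⟩ := by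
    rw [show (⟨S.t, S.t_mem⟩ : centralizer ({z} : Set G)) = ⟨S.b, S.hb.2⟩ * ⟨S.a, mem_C D S.ha.1⟩ from rfl,
      map_mul, (D.act_eq_one ⟨S.a, mem_C D S.ha.1⟩).2 S.ha.1, mul_one]
  rw [e] at h
  obtain ⟨hadm, hu⟩ := B.act_P S.hb
  rw [ts_uMap hadm.1 hu, S.wb, std_facts.1] at h
  exact one_ne_zero h

theorem Std.t_not_mem : S.t ∉ D.Q := fun h => S.not_ts (by
  intro m
  rw [(D.act_eq_one ⟨S.t, S.t_mem⟩).2 h]
  show qf (m + m) = 0
  rw [add_self]; decide +kernel)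

theorem Std.conj_k {b a : G} (hb : b ∈ B.P) (ha : a ∈ B.A) {k : G} (hk : k ∈ B.A) :
    k * (b * a) * k⁻¹ = (if bf (D.π k) (B.wv b) = 0 then 1 else z * B.s) *
      (if bf (D.π k) (D.π a) = 0 then 1 else z) * (b * a) := by
  have hcm := B.cm_eq hb hk
  have hV := B.cm_mem hb hk
  have hcc : cm b k * cm b k = 1 := by
    rcases B.inV_cases hV with e | e | e | e <;> rw [e]
    · exact one_mul 1
    · exact D.pre.gen.sq
    · exact B.s_sq
    · rw [mul_assoc, ← mul_assoc B.s z, (D.pre.gen.comm_z _ B.sQ).eq, mul_assoc, B.s_sq, mul_one, D.pre.gen.sq]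
  have h1 : k * b * k⁻¹ = cm b k * b := by
    calc k * b * k⁻¹ = (cm b k)⁻¹ * b := by simp only [cm]; group
      _ = cm b k * b := by rw [inv_eq_of_mul_eq_one_right hcc]
  have h2 : k * a * k⁻¹ = (if bf (D.π k) (D.π a) = 0 then 1 else z) * a := by
    split_ifs with h
    · rw [one_mul, (D.comm_iff k hk.1 a ha.1).2 h, mul_inv_cancel_right]
    · rcases Extra2.conj_eq D.pre.gen hk.1 ha.1 with e | e
      · exact absurd ((D.comm_iff k hk.1 a ha.1).1 (mul_inv_eq_iff_eq_mul.1 e)) h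
      · exact e
  have hbz : ∀ t : G, t = 1 ∨ t = z → b * t = t * b := by
    rintro t (rfl | rfl)
    · simp
    · exact (B.P_fix hb).1
  calc k * (b * a) * k⁻¹ = k * b * k⁻¹ * (k * a * k⁻¹) := by group
    _ = cm b k * (b * (if bf (D.π k) (D.π a) = 0 then 1 else z)) * a := by rw [h1, h2]; group
    _ = cm b k * ((if bf (D.π k) (D.π a) = 0 then 1 else z) * b) * a := by
        rw [hbz _ (by split_ifs; exacts [Or.inl rfl, Or.inr rfl])]
    _ = _ := by rw [hcm]; group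

theorem Std.conj_to_t {b a : G} (hb : b ∈ B.P) (ha : a ∈ B.A) (hsq : b * a * (b * a) = 1)
    (hq : qf (B.wv b) = 1) :
    ∃ c ∈ centralizer ({z} : Set G), c * S.t * c⁻¹ = b * a := by
  obtain ⟨h1, h2⟩ := (B.prod_sq hb ha).2.1 hsq
  obtain ⟨hadm, -⟩ := B.act_P hb
  have hae := (B.mem_A.1 ha).2
  have hwq : qf (red (B.wv b)) = 1 := by rw [qf_red hadm.1, hq]
  have hvq : qf (red (D.π a)) = 1 := by rw [qf_red hae, h2, ← h1, hq]
  have hwv : bf (red (B.wv b)) (red (D.π a)) = 1 := by rw [bf_red hadm.1 hae, bf_comm, ← h1, hq]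
  have hwW := red_mem _ hadm.1
  have hvW := red_mem _ hae
  obtain ⟨e, he, a1, ha1, e', he', a', ha', hqe, hea, hqe', hea', hw2, hv2⟩ :=
    pairs_transitive hwW hvW hwq hvq hwv
  have hm : siegel q6 e a1 * siegel q6 e' a' ∈ commutator (oGroup q6) :=
    mul_mem (sm_mem hqe hea) (sm_mem hqe' hea')
  have happ : ∀ m, (siegel q6 e a1 * siegel q6 e' a').1 m = sm e a1 (sm e' a' m) := fun m => by
    rw [← siegel_sm hqe hea, ← siegel_sm hqe' hea']; rfl
  have hfix : (siegel q6 e a1 * siegel q6 e' a').1 e0 = e0 := by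
    rw [happ, sm_e0 he' ha', sm_e0 he ha1]
  obtain ⟨c, hc, hcs⟩ := B.lift_fix hm hfix
  have hcz : (c : G) * z * (c : G)⁻¹ = z := by
    rw [mem_centralizer_singleton_iff.1 c.2, mul_inv_cancel_right]
  obtain ⟨hb', hbr⟩ := B.red_wv_conj S.hb hcz hcs
  obtain ⟨bb, hbb⟩ : ∃ bb, bb = (c : G) * S.b * (c : G)⁻¹ := ⟨_, rfl⟩
  obtain ⟨aa, haa⟩ : ∃ aa, aa = (c : G) * S.a * (c : G)⁻¹ := ⟨_, rfl⟩
  have hwb : B.wv bb = B.wv b := by
    rw [hbb]
    refine adm_eq (B.act_P hb').1 hadm ?_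
    rw [hbr c.2, hc, S.wb, map_add, hfix, happ, hw2, red_add, red_e0, add_zero, red_wList hwW]
  have haaQ : aa ∈ D.Q := haa ▸ D.pre.conj_mem (mem_centralizer_singleton_iff.1 c.2) S.ha.1
  have haπ : D.π aa = red (D.π a) := by rw [haa, D.act_π c _ S.ha.1, hc, S.πa, happ, hv2]
  have haaA : aa ∈ B.A := B.mem_A.2 ⟨haaQ, by rw [haπ]; exact (wList_perp _ hvW).1⟩
  have hbbP : bb ∈ B.P := hbb ▸ hb'
  have hv1Q : bb⁻¹ * b ∈ D.Q := by
    refine (D.act_eq_one (⟨bb, hbbP.2⟩⁻¹ * ⟨b, hb.2⟩)).1 ?_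
    rw [map_mul, map_inv, inv_mul_eq_one]
    exact Subtype.ext (LinearEquiv.ext fun m => by rw [(B.act_P hbbP).2, (B.act_P hb).2, hwb])
  have hv1 := B.meet hv1Q (mul_mem (inv_mem hbbP.1) hb.1)
  have hv2' : B.InV (aa⁻¹ * a) := ⟨mul_mem (inv_mem haaQ) ha.1, by
    rw [D.π_mul _ (inv_mem haaQ) _ ha.1, π_inv D haaQ, haπ]
    rcases red_cases (D.π a) with e | e
    · left; rw [← e, add_self]
    · right; conv_lhs => arg 2; rw [e]
      rw [← add_assoc, add_self, zero_add]⟩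
  have hV := B.meet (mul_mem hv1.1 hv2'.1) (mul_mem (B.inV_of (B.inV_cases hv1)).2 (B.inV_of (B.inV_cases hv2')).2)
  obtain ⟨v, hv⟩ : ∃ v, v = bb⁻¹ * b * (aa⁻¹ * a) := ⟨_, rfl⟩
  rw [← hv] at hV
  have hba : b * a = v * (bb * aa) := by
    have c1 := B.A_comm_V haaA hv1
    have c2 := B.A_comm_V haaA hV
    have c3 := B.P_comm_V hbbP hV
    calc b * a = bb * (bb⁻¹ * b * aa) * (aa⁻¹ * a) := by group
      _ = bb * (aa * (bb⁻¹ * b)) * (aa⁻¹ * a) := by rw [c1]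
      _ = bb * (aa * v) := by rw [hv]; group
      _ = (bb * v) * aa := by rw [c2]; group
      _ = v * (bb * aa) := by rw [c3]; group
  have hww : bf (D.π aa) (B.wv bb) = 1 := by
    rw [haπ, hwb, bf_comm]
    rcases red_cases (B.wv b) with e | e <;> rw [e]
    · exact hwv
    · rw [bf_add_left, bf_comm e0, (wList_perp _ hvW).1, add_zero]; exact hwv
  obtain ⟨i, j, hij⟩ : ∃ i j : ZMod 2, v = (if i = 0 then 1 else z * B.s) * (if j = 0 then 1 else z) := by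
    rcases B.inV_cases hV with e | e | e | e
    · exact ⟨0, 0, by simp [e]⟩
    · exact ⟨0, 1, by simp [e]⟩
    · exact ⟨1, 1, by
        rw [if_neg one_ne_zero, if_neg one_ne_zero, e, mul_assoc, (D.pre.gen.comm_z _ B.sQ).eq, ← mul_assoc,
          D.pre.gen.sq, one_mul]⟩
    · exact ⟨1, 0, by simp [e]⟩
  obtain ⟨m, hmW, hm1, hm2⟩ := span_pair _ hwW _ hvW hwq hvq hwv i j
  obtain ⟨k, hk, hkπ⟩ := D.π_surj m
  have hkA : k ∈ B.A := B.mem_A.2 ⟨hk, by rw [hkπ]; exact (wList_perp m hmW).1⟩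
  have hk1 : bf (D.π k) (B.wv bb) = i := by
    rw [hkπ, hwb, ← hm1, bf_comm m]
    rcases red_cases (B.wv b) with e | e
    · rw [← e]
    · conv_lhs => rw [e, bf_add_left, bf_comm e0, (wList_perp m hmW).1, add_zero]
  have hk2 : bf (D.π k) (D.π aa) = j := by rw [hkπ, haπ, bf_comm, hm2]
  refine ⟨k * c, mul_mem (mem_C D hk) c.2, ?_⟩
  calc k * (c : G) * S.t * (k * (c : G))⁻¹ = k * (bb * aa) * k⁻¹ := by
        rw [hbb, haa, Std.t]; group
    _ = b * a := by rw [Std.conj_k hbbP haaA hkA, hk1, hk2, hba, hij]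

theorem Std.classify {x : G} (hx : x ∈ centralizer ({z} : Set G)) (hxQ : x ∉ D.Q) (hx2 : x * x = 1) :
    Sing D x ∨ ∃ c ∈ centralizer ({z} : Set G), c * S.t * c⁻¹ = x := by
  obtain ⟨c, hc, b, hb, a, ha, he, hne⟩ := B.exists_product hx hxQ hx2
  have hsq : b * a * (b * a) = 1 := by
    rw [← he, show c * x * c⁻¹ * (c * x * c⁻¹) = c * (x * x) * c⁻¹ by group, hx2]; group
  rcases zmod2_cases (qf (B.wv b)) with hq | hq
  · left
    have h := (B.sing_of_singular hb ha hne hq hsq).conj (inv_mem hc)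
    rwa [← he, show c⁻¹ * (c * x * c⁻¹) * c⁻¹⁻¹ = x by group] at h
  · right
    obtain ⟨d, hd, hde⟩ := S.conj_to_t hb ha hsq hq
    refine ⟨c⁻¹ * d, mul_mem (inv_mem hc) hd, ?_⟩
    calc c⁻¹ * d * S.t * (c⁻¹ * d)⁻¹ = c⁻¹ * (d * S.t * d⁻¹) * c := by group
      _ = x := by rw [hde, ← he]; group

theorem Std.meet_trivial {k y : G} (hk : k * z * k⁻¹ = S.t) (hy : y ∈ D.Q) (hy' : y ∈ conjQ D k) :
    y = 1 := by
  have hzk : z ∉ conjQ D k := by
    intro h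
    have h1 : k⁻¹ * z * k⁻¹⁻¹ ∈ D.Q := by rw [inv_inv]; exact (mem_conjQ D).1 h
    have h2 := (mem_conjQ D).1 (mem_conjQ_self D h1)
    rw [inv_inv, hk] at h2
    exact S.t_not_mem h2
  have hy2 : y * y = 1 := by
    rcases D.pre.gen.square y hy with e | e
    · exact e
    · have h' := mul_mem hy' hy'
      rw [e] at h'
      exact absurd h' hzk
  by_contra h1
  have hz : y ≠ z := fun e => by subst e; exact hzk hy'
  obtain ⟨c, hc, hcs⟩ := exists_conj_C D B.sQ hy (by rw [B.πs]; exact q_e0) ((D.sq_iff y hy).1 hy2)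
    (by rw [B.πs]; exact base_facts.2.2.2) (fun e => ((D.π_eq_zero y hy).1 e).elim h1 hz)
  have hm : c * B.g * z * (c * B.g)⁻¹ = y := by rw [← hcs, ← B.gz]; group
  have hp : (k⁻¹ * (c * B.g)) * z * (k⁻¹ * (c * B.g))⁻¹ ∈ D.Q := by
    rw [show (k⁻¹ * (c * B.g)) * z * (k⁻¹ * (c * B.g))⁻¹ = k⁻¹ * (c * B.g * z * (c * B.g)⁻¹) * k by group, hm]
    exact (mem_conjQ D).1 hy'
  have ht : S.t ∈ conjQ D (c * B.g) := by
    rw [mem_conjQ, ← hk]
    have := (mem_conjQ D).1 (mem_conjQ_self D hp)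
    rwa [show (k⁻¹ * (c * B.g))⁻¹ * z * (k⁻¹ * (c * B.g)) = (c * B.g)⁻¹ * (k * z * k⁻¹) * (c * B.g) by group]
      at this
  exact S.not_ts (B.ts_of_sing S.t_mem S.t_sq ⟨c * B.g, hm ▸ hy, hm ▸ hz, ht⟩)

theorem Std.not_conj : ¬ IsConj z S.t := by
  intro hconj
  obtain ⟨y, hy⟩ := isConj_iff.1 hconj
  obtain ⟨x, hx⟩ : ∃ x, x = y⁻¹ * z * y := ⟨_, rfl⟩
  have hxC : x ∈ centralizer ({z} : Set G) := by
    rw [mem_centralizer_singleton_iff, hx]
    have h := mem_centralizer_singleton_iff.1 S.t_mem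
    rw [← hy] at h
    calc y⁻¹ * z * y * z = y⁻¹ * (z * (y * z * y⁻¹)) * y := by group
      _ = y⁻¹ * (y * z * y⁻¹ * z) * y := by rw [h]
      _ = z * (y⁻¹ * z * y) := by group
  have hxQ : x ∉ D.Q := fun h => by
    have h1 : y⁻¹ * z * y⁻¹⁻¹ ∈ D.Q := by rw [inv_inv, ← hx]; exact h
    have h2 := (mem_conjQ D).1 (mem_conjQ_self D h1)
    rw [inv_inv, hy] at h2
    exact S.t_not_mem h2
  have hx2 : x * x = 1 := by
    rw [hx, show y⁻¹ * z * y * (y⁻¹ * z * y) = y⁻¹ * (z * z) * y by group, D.pre.gen.sq]; group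
  rcases S.classify hxC hxQ hx2 with ⟨k, hk, hkz, hxk⟩ | ⟨c, hc, hcx⟩
  · -- the centre of the conjugate kernel through the second involution
    obtain ⟨m, hm⟩ : ∃ m, m = y * k := ⟨_, rfl⟩
    have hzm : z ∈ conjQ D m := by
      rw [mem_conjQ, hm, show (y * k)⁻¹ * z * (y * k) = k⁻¹ * (y⁻¹ * z * y) * k by group, ← hx]
      exact (mem_conjQ D).1 hxk
    have h1 : m⁻¹ * z * m⁻¹⁻¹ ∈ D.Q := by rw [inv_inv]; exact (mem_conjQ D).1 hzm
    have h2 : m * z * m⁻¹ ∈ D.Q := by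
      have := (mem_conjQ D).1 (mem_conjQ_self D h1)
      rwa [inv_inv] at this
    have h3 : m * z * m⁻¹ ∈ conjQ D y := by
      rw [mem_conjQ, hm, show y⁻¹ * (y * k * z * (y * k)⁻¹) * y = k * z * k⁻¹ by group]
      exact hk
    exact D.pre.gen.ne_one (conj_eq_one_iff.1 (S.meet_trivial hy h2 h3))
  · -- a symmetric pair
    obtain ⟨k, hk⟩ : ∃ k, k = y * c := ⟨_, rfl⟩
    have hcz := mem_centralizer_singleton_iff.1 hc
    have hkz : k * z * k⁻¹ = S.t := by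
      calc k * z * k⁻¹ = y * (c * z) * c⁻¹ * y⁻¹ := by rw [hk]; group
        _ = y * (z * c) * c⁻¹ * y⁻¹ := by rw [hcz]
        _ = S.t := by rw [← hy]; group
    have hkt : k * S.t * k⁻¹ = z := by
      calc k * S.t * k⁻¹ = y * (c * S.t * c⁻¹) * y⁻¹ := by rw [hk]; group
        _ = z := by rw [hcx, hx]; group
    let P := D.Q ⊓ centralizer ({S.t} : Set G)
    have hPC : ∀ p : P, k⁻¹ * (p : G) * k ∈ centralizer ({z} : Set G) := fun p => by
      rw [mem_centralizer_singleton_iff]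
      have h := mem_centralizer_singleton_iff.1 p.2.2
      rw [← hkz] at h
      calc k⁻¹ * (p : G) * k * z = k⁻¹ * ((p : G) * (k * z * k⁻¹)) * k := by group
        _ = k⁻¹ * (k * z * k⁻¹ * p) * k := by rw [h]
        _ = z * (k⁻¹ * p * k) := by group
    let φ : P →* O6 := D.act.comp (MonoidHom.mk' (fun p : P =>
      (⟨k⁻¹ * (p : G) * k, hPC p⟩ : centralizer ({z} : Set G))) fun p q => Subtype.ext (by
        show k⁻¹ * ((p : G) * q) * k = k⁻¹ * p * k * (k⁻¹ * q * k); group))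
    have hinj : Function.Injective φ := (injective_iff_map_eq_one φ).2 fun p hp => Subtype.ext
      (S.meet_trivial hkz p.2.1 ((mem_conjQ D).2 ((D.act_eq_one _).1 hp)))
    have hfix : ∀ p : P, ∀ u : G, u ∈ P → (φ p).1 (D.π u) = D.π u := by
      intro p u hu
      show (D.act ⟨k⁻¹ * (p : G) * k, hPC p⟩).1 (D.π u) = _
      rw [← D.act_π _ _ hu.1]
      have hku : k * u * k⁻¹ ∈ centralizer ({z} : Set G) := by
        rw [mem_centralizer_singleton_iff, ← hkt]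
        have h := mem_centralizer_singleton_iff.1 hu.2
        calc k * u * k⁻¹ * (k * S.t * k⁻¹) = k * (u * S.t) * k⁻¹ := by group
          _ = k * (S.t * u) * k⁻¹ := by rw [h]
          _ = k * S.t * k⁻¹ * (k * u * k⁻¹) := by group
      have hkuQ : k * u * k⁻¹ ∈ conjQ D k :=
        (mem_conjQ D).2 (by rw [show k⁻¹ * (k * u * k⁻¹) * k = u by group]; exact hu.1)
      have hpQ : (p : G) * (k * u * k⁻¹) * (p : G)⁻¹ ∈ conjQ D k := by
        rw [mem_conjQ, show k⁻¹ * ((p : G) * (k * u * k⁻¹) * (p : G)⁻¹) * k =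
          (k⁻¹ * p * k) * u * (k⁻¹ * p * k)⁻¹ by group]
        exact D.pre.conj_mem (mem_centralizer_singleton_iff.1 (hPC p)) hu.1
      have hone := S.meet_trivial hkz
        (show (p : G) * (k * u * k⁻¹) * (p : G)⁻¹ * (k * u * k⁻¹)⁻¹ ∈ D.Q by
          rw [show (p : G) * (k * u * k⁻¹) * (p : G)⁻¹ * (k * u * k⁻¹)⁻¹ =
            (p : G) * ((k * u * k⁻¹) * (p : G)⁻¹ * (k * u * k⁻¹)⁻¹) by group]
          exact mul_mem p.2.1 (D.pre.conj_mem (mem_centralizer_singleton_iff.1 hku) (inv_mem p.2.1)))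
        (mul_mem hpQ (inv_mem hkuQ))
      congr 1
      show k⁻¹ * (p : G) * k * u * (k⁻¹ * (p : G) * k)⁻¹ = u
      calc k⁻¹ * (p : G) * k * u * (k⁻¹ * (p : G) * k)⁻¹
          = k⁻¹ * ((p : G) * (k * u * k⁻¹) * (p : G)⁻¹) * k := by group
        _ = u := by rw [mul_inv_eq_one.1 hone]; group
    have hplane : ∀ m : M6, bf m e0 = 0 → bf m (w2 + e0) = 0 → bf m v2 = 0 →
        ∀ q, q ∈ D.Q → D.π q = m → q ∈ P := by
      intro m h0 h1 h2 q hq hqm
      refine ⟨hq, mem_centralizer_singleton_iff.2 (mul_inv_eq_iff_eq_mul.1 ?_)⟩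
      rw [Std.t, Std.conj_k S.hb S.ha (B.mem_A.2 ⟨hq, hqm ▸ h0⟩), S.wb, S.πa, hqm, if_pos h1, if_pos h2,
        one_mul, one_mul]
    have hK : ∀ n ∈ [e0, k1, k2], bf n e0 = 0 ∧ bf n (w2 + e0) = 0 ∧ bf n v2 = 0 := by decide +kernel
    have hrange : φ.range ≤ fixK := by
      rintro _ ⟨p, rfl⟩
      have key : ∀ n ∈ [e0, k1, k2], (φ p).1 n = n := fun n hn => by
        obtain ⟨u, hu, hun⟩ := D.π_surj n
        obtain ⟨h0, h1, h2⟩ := hK n hn
        have := hfix p u (hplane n h0 h1 h2 u hu hun)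
        rwa [hun] at this
      exact ⟨key e0 (by simp), key k1 (by simp), key k2 (by simp)⟩
    -- the order of the group
    have h16 : 16 ≤ Nat.card P := by
      choose q hq hqπ using D.π_surj
      let f : (ZMod 2 × ZMod 2 × ZMod 2) × Bool → P := fun r =>
        ⟨q (r.1.1 • e0 + r.1.2.1 • k1 + r.1.2.2 • k2) * cond r.2 z 1, by
          obtain ⟨p0, p1, p2⟩ := hK e0 (by simp)
          obtain ⟨r0, r1, r2⟩ := hK k1 (by simp)
          obtain ⟨s0, s1, s2⟩ := hK k2 (by simp)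
          refine mul_mem (hplane _ ?_ ?_ ?_ _ (hq _) (hqπ _)) ?_
          · simp [bf_add_left, bf_smul_left, p0, r0, s0]
          · simp [bf_add_left, bf_smul_left, p1, r1, s1]
          · simp [bf_add_left, bf_smul_left, p2, r2, s2]
          · cases r.2
            · exact one_mem _
            · exact hplane 0 (bf_zero_left _) (bf_zero_left _) (bf_zero_left _) z D.pre.gen.mem (π_z D)⟩
      have hfi : Function.Injective f := by
        rintro ⟨u, i⟩ ⟨v, j⟩ h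
        have h' : q (u.1 • e0 + u.2.1 • k1 + u.2.2 • k2) * cond i z 1 =
            q (v.1 • e0 + v.2.1 • k1 + v.2.2 • k2) * cond j z 1 := congrArg Subtype.val h
        have hz' : ∀ i : Bool, cond i z 1 ∈ D.Q ∧ D.π (cond i z 1) = 0 := fun i => by
          cases i
          exacts [⟨one_mem _, π_one D⟩, ⟨D.pre.gen.mem, π_z D⟩]
        have hh := congrArg D.π h'
        rw [D.π_mul _ (hq _) _ (hz' i).1, D.π_mul _ (hq _) _ (hz' j).1, (hz' i).2, (hz' j).2, hqπ, hqπ,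
          add_zero, add_zero] at hh
        have huv : u = v := (by decide +kernel : ∀ u v : ZMod 2 × ZMod 2 × ZMod 2,
          u.1 • e0 + u.2.1 • k1 + u.2.2 • k2 = v.1 • e0 + v.2.1 • k1 + v.2.2 • k2 → u = v) u v hh
        subst huv
        have := mul_left_cancel h'
        cases i <;> cases j
        · rfl
        · exact absurd this.symm D.pre.gen.ne_one
        · exact absurd this D.pre.gen.ne_one
        · rfl
      have := Nat.card_le_card_of_injective f hfi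
      simpa using this
    have hdvd : Nat.card P ∣ 2 ^ 7 := (Subgroup.card_dvd_of_le inf_le_left).trans (by rw [D.card]; norm_num)
    obtain ⟨i, -, hi⟩ := (Nat.dvd_prime_pow Nat.prime_two).1 hdvd
    have h4 : 4 ≤ i := by
      by_contra h
      have : 2 ^ i ≤ 2 ^ 3 := Nat.pow_le_pow_right (by norm_num) (by omega)
      omega
    refine sixteen_not_dvd_fixK ?_
    have hd : Nat.card φ.range ∣ Nat.card fixK := Subgroup.card_dvd_of_le hrange
    rw [← Nat.card_congr (MonoidHom.ofInjective hinj).toEquiv, hi] at hd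
    exact (pow_dvd_pow 2 h4).trans hd

omit B in
theorem exists_conj_mem_C (D : Dat z) {x : G} (hx : x * x = 1) :
    ∃ u : G, u * x * u⁻¹ ∈ centralizer ({z} : Set G) := by
  haveI : Fact (Nat.Prime 2) := ⟨Nat.prime_two⟩
  obtain ⟨S, hQS⟩ := (IsPGroup.of_card (n := 7) (p := 2) (G := D.Q) (by rw [D.card]; norm_num)).exists_le_sylow
  have hzS : ∀ s ∈ (S : Subgroup G), s * z = z * s := by
    intro s hs
    haveI : Nontrivial ↥(S : Subgroup G) :=
      (nontrivial_iff_exists_ne_one _).2 ⟨z, hQS D.pre.gen.mem, D.pre.gen.ne_one⟩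
    haveI := S.isPGroup'.center_nontrivial
    obtain ⟨w, hw⟩ := exists_ne (1 : center ↥(S : Subgroup G))
    have hc : ∀ y ∈ D.Q, Commute ((w : ↥(S : Subgroup G)) : G) y := fun y hy =>
      (congrArg Subtype.val (mem_center_iff.1 w.2 ⟨y, hQS hy⟩)).symm
    rcases D.pre.gen.center_iff _ (D.pre.self (mem_centralizer_iff.2 fun y hy => (hc y hy).symm.eq)) hc with e | e
    · exact absurd (Subtype.ext (Subtype.ext e)) hw
    · have := congrArg Subtype.val (mem_center_iff.1 w.2 ⟨s, hs⟩)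
      rw [← e]; exact this
  have hp : IsPGroup 2 (zpowers x) := by
    rintro ⟨y, hy⟩
    refine ⟨1, Subtype.ext ?_⟩
    show y ^ (2 ^ 1) = 1
    rcases (Extra2.mem_zpowers_iff hx).1 hy with e | e <;> rw [e, pow_one, pow_two]
    · exact one_mul 1
    · exact hx
  obtain ⟨T, hT⟩ := hp.exists_le_sylow
  obtain ⟨u, hu⟩ := MulAction.exists_smul_eq G T S
  refine ⟨u, mem_centralizer_singleton_iff.2 (hzS _ ?_)⟩
  rw [← hu, Sylow.coe_subgroup_smul]
  exact mem_map_of_mem (MulAut.conj u).toMonoidHom (hT (mem_zpowers x))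

/-- Exactly two classes of involutions. -/
theorem main {g₀ : G} (h₀ : g₀ * z * g₀⁻¹ ∈ D.Q) (hne : g₀ * z * g₀⁻¹ ≠ z) :
    ∃ a b : G, orderOf a = 2 ∧ orderOf b = 2 ∧ ¬ IsConj a b ∧
      ∀ x : G, orderOf x = 2 → IsConj x a ∨ IsConj x b := by
  obtain ⟨B⟩ := exists_base D h₀ hne
  obtain ⟨S⟩ := B.exists_std
  haveI : Fact (Nat.Prime 2) := ⟨Nat.prime_two⟩
  refine ⟨z, S.t, Extra2.orderOf_gen D.pre.gen, orderOf_eq_prime (by rw [pow_two]; exact S.t_sq)
    (fun e => S.t_not_mem (e ▸ one_mem _)), S.not_conj, fun x hx => ?_⟩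
  have hx2 : x * x = 1 := by rw [← pow_two, ← hx, pow_orderOf_eq_one]
  have hx1 : x ≠ 1 := fun e => by rw [e, orderOf_one] at hx; omega
  obtain ⟨u, hu⟩ := exists_conj_mem_C D hx2
  have hxu : IsConj x (u * x * u⁻¹) := isConj_iff.2 ⟨u, rfl⟩
  obtain ⟨y, hy⟩ : ∃ y, y = u * x * u⁻¹ := ⟨_, rfl⟩
  rw [← hy] at hu hxu
  have hy2 : y * y = 1 := by
    rw [hy, show u * x * u⁻¹ * (u * x * u⁻¹) = u * (x * x) * u⁻¹ by group, hx2]; group
  have hy1 : y ≠ 1 := fun e => hx1 (conj_eq_one_iff.1 (hy ▸ e))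
  by_cases hyQ : y ∈ D.Q
  · left
    by_cases hyz : y = z
    · subst hyz; exact hxu
    · refine hxu.trans ?_
      obtain ⟨c, -, hc⟩ := exists_conj_C D B.sQ hyQ (by rw [B.πs]; exact q_e0) ((D.sq_iff y hyQ).1 hy2)
        (by rw [B.πs]; exact base_facts.2.2.2) (fun e => ((D.π_eq_zero y hyQ).1 e).elim hy1 hyz)
      exact ((isConj_iff.2 ⟨B.g, B.gz⟩).trans (isConj_iff.2 ⟨c, hc⟩)).symm
  · rcases S.classify hu hyQ hy2 with h | ⟨c, -, hc⟩
    · exact Or.inl (hxu.trans (B.isConj_of_sing h hy2 hy1).symm)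
    · exact Or.inr (hxu.trans (isConj_iff.2 ⟨c, hc⟩).symm)

end CfsgLib.SuzInvol
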