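import Cfsg.Agent.Quad.OmegaMem
import Cfsg.Agent.Quad.Siegel
import Cfsg.Agent.Quad.Concrete
import Cfsg.Agent.Quad.SimpleOmega
import Cfsg.Agent.Quad.Orders

/-!
Finite checks in the six-dimensional orthogonal space of minus type over two elements, around a
singular point.
-/

set_option autoImplicit false
set_option maxRecDepth 100000
set_option linter.style.haveILetI false

namespace CfsgLib.SuzInvol

open CfsgLib.Quad QuadraticMap

/-- Coordinates. -/
abbrev I6 : Type := (Fin 2 ⊕ Fin 2) ⊕ Fin 2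

/-- The space. -/
abbrev M6 : Type := I6 → ZMod 2

/-- The form. -/
abbrev q6 : QuadraticForm (ZMod 2) M6 := minusQ 2 1 1

/-- The orthogonal group. -/
abbrev O6 : Type := ↥(oGroup q6)

/-- A computable copy of the form. -/
def qf (v : M6) : ZMod 2 :=
  v (.inl (.inl 0)) * v (.inl (.inr 0)) + v (.inl (.inl 1)) * v (.inl (.inr 1)) +
    v (.inr 0) + v (.inr 0) * v (.inr 1) + v (.inr 1)

/-- Its polar form. -/
def bf (u v : M6) : ZMod 2 :=
  u (.inl (.inl 0)) * v (.inl (.inr 0)) + u (.inl (.inr 0)) * v (.inl (.inl 0)) +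
    u (.inl (.inl 1)) * v (.inl (.inr 1)) + u (.inl (.inr 1)) * v (.inl (.inl 1)) +
    u (.inr 0) * v (.inr 1) + u (.inr 1) * v (.inr 0)

theorem zmod2_cases : ∀ a : ZMod 2, a = 0 ∨ a = 1 := by decide

theorem q6_eq (v : M6) : q6 v = qf v := by
  rw [minusQ_coe]
  revert v
  simp only [Cfsg.quadFormMinus, qf]
  decide +kernel

theorem qf_add (u v : M6) : qf (u + v) = qf u + qf v + bf u v := by
  simp only [qf, bf, Pi.add_apply]; ring

theorem polar_eq (u v : M6) : polar q6 u v = bf u v := by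
  rw [polar, q6_eq, q6_eq, q6_eq, qf_add]; ring

theorem bf_comm (u v : M6) : bf u v = bf v u := by simp only [bf]; ring

theorem bf_add_left (u v w : M6) : bf (u + v) w = bf u w + bf v w := by
  simp only [bf, Pi.add_apply]; ring

theorem bf_add_right (u v w : M6) : bf u (v + w) = bf u v + bf u w := by
  simp only [bf, Pi.add_apply]; ring

theorem bf_smul_left (c : ZMod 2) (u w : M6) : bf (c • u) w = c * bf u w := by
  simp only [bf, Pi.smul_apply, smul_eq_mul]; ring

theorem bf_smul_right (c : ZMod 2) (u w : M6) : bf u (c • w) = c * bf u w := by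
  simp only [bf, Pi.smul_apply, smul_eq_mul]; ring

theorem bf_zero_right (u : M6) : bf u 0 = 0 := by simp [bf]

theorem bf_zero_left (u : M6) : bf 0 u = 0 := by simp [bf]

theorem bf_self (u : M6) : bf u u = 0 := by
  rw [← polar_eq, polar_self, show (2 : ℕ) • q6 u = q6 u + q6 u from two_nsmul _]
  exact CharTwo.add_self_eq_zero _

theorem nondeg6 : (polarBilin q6).Nondegenerate :=
  minusQ_nondeg (by decide) 2

theorem hgen6 : (∃ t : ZMod 2, t ≠ 0 ∧ t ≠ 1) ∨ Module.finrank (ZMod 2) M6 ≠ 4 :=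
  Or.inr (by simp)

theorem add_self (u : M6) : u + u = 0 := funext fun _ => CharTwo.add_self_eq_zero _

theorem eq_zero_of_bf {u : M6} (h : ∀ v, bf u v = 0) : u = 0 :=
  nondeg6.1 u fun v => by rw [polarBilin_apply_apply, polar_eq, h]

theorem bf_oGroup (g : O6) (u v : M6) : bf (g.1 u) (g.1 v) = bf u v := by
  rw [← polar_eq, ← polar_eq, polar_oGroup]

theorem qf_oGroup (g : O6) (u : M6) : qf (g.1 u) = qf u := by rw [← q6_eq, ← q6_eq, g.2]

/-- The singular point. -/
def e0 : M6 := Sum.elim (Sum.elim ![1, 0] 0) 0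

/-- A singular vector not orthogonal to it. -/
def f0 : M6 := Sum.elim (Sum.elim 0 ![1, 0]) 0

/-- An anisotropic vector. -/
def w2 : M6 := Sum.elim (Sum.elim 0 0) ![1, 0]

/-- An anisotropic vector spanning an elliptic line with it. -/
def v2 : M6 := Sum.elim (Sum.elim 0 0) ![0, 1]

theorem base_facts : qf e0 = 0 ∧ qf f0 = 0 ∧ bf e0 f0 = 1 ∧ e0 ≠ 0 := by decide +kernel

theorem q_e0 : qf e0 = 0 := base_facts.1

theorem b_ef : bf e0 f0 = 1 := base_facts.2.2.1

theorem b_fe : bf f0 e0 = 1 := by rw [bf_comm, b_ef]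

/-- The vectors of the orthogonal complement of the hyperbolic pair. -/
def mkW (a b c d : ZMod 2) : M6 := Sum.elim (Sum.elim ![0, a] ![0, b]) ![c, d]

/-- Its elements. -/
def wList : List M6 := do
  let a ← [(0 : ZMod 2), 1]
  let b ← [(0 : ZMod 2), 1]
  let c ← [(0 : ZMod 2), 1]
  let d ← [(0 : ZMod 2), 1]
  return mkW a b c d

/-- Normal form modulo the singular point. -/
def red (m : M6) : M6 := m + bf m f0 • e0

theorem red_mem : ∀ m : M6, bf m e0 = 0 → red m ∈ wList := by decide +kernel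

theorem wList_perp : ∀ w ∈ wList, bf w e0 = 0 ∧ bf w f0 = 0 := by decide +kernel

theorem red_wList {w : M6} (hw : w ∈ wList) : red w = w := by
  rw [red, (wList_perp w hw).2, zero_smul, add_zero]

theorem red_cases (m : M6) : m = red m ∨ m = red m + e0 := by
  rcases zmod2_cases (bf m f0) with h | h <;> rw [red, h]
  · left; rw [zero_smul, add_zero]
  · right; rw [one_smul, add_assoc, add_self, add_zero]

theorem red_add (m n : M6) : red (m + n) = red m + red n := by
  simp only [red, bf_add_left, add_smul]; abel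

theorem red_e0 : red e0 = 0 := by decide +kernel

theorem qf_red {m : M6} (h : bf m e0 = 0) : qf (red m) = qf m := by
  rw [red, qf_add]
  rcases zmod2_cases (bf m f0) with c | c <;> rw [c]
  · rw [zero_smul, bf_zero_right, show qf 0 = 0 by decide +kernel, add_zero, add_zero]
  · rw [one_smul, h, q_e0, add_zero, add_zero]

theorem bf_red {m n : M6} (hm : bf m e0 = 0) (hn : bf n e0 = 0) : bf (red m) (red n) = bf m n := by
  have hee : bf e0 e0 = 0 := bf_self _
  simp only [red, bf_add_left, bf_add_right, bf_smul_left, bf_smul_right, hm, bf_comm e0 n, hn, hee]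
  ring

/-- The Siegel map, computably. -/
def sm (e a x : M6) : M6 := x + bf x e • a + (bf x a + qf a * bf x e) • e

theorem siegel_sm {e a : M6} (he : qf e = 0) (hea : bf e a = 0) (x : M6) :
    (siegel q6 e a).1 x = sm e a x := by
  rw [siegel_apply (by rw [q6_eq, he]) (by rw [polar_eq, hea]), polar_eq, polar_eq, q6_eq, sm,
    sub_eq_add_neg]
  congr 1
  funext k
  exact CharTwo.neg_eq _

theorem sm_mem {e a : M6} (he : qf e = 0) (hea : bf e a = 0) :
    siegel q6 e a ∈ commutator (oGroup q6) :=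
  siegelGroup_le_commutator nondeg6 (by simp) (siegel_mem_group (by rw [q6_eq, he]) (by rw [polar_eq, hea]))

theorem sm_e0 {e a : M6} (he : e ∈ wList) (ha : a ∈ wList) : sm e a e0 = e0 := by
  rw [sm, bf_comm e0 e, (wList_perp e he).1, bf_comm e0 a, (wList_perp a ha).1, zero_smul, mul_zero,
    add_zero, add_zero, zero_smul, add_zero]

theorem sing_moved : ∀ m : M6, qf m = 0 → bf m e0 = 0 → m ≠ 0 → m ≠ e0 →
    ∃ e ∈ wList, ∃ a ∈ wList, qf e = 0 ∧ bf e a = 0 ∧ bf m (sm e a m) = 1 := by decide +kernel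

theorem functional_moved : ∀ w ∈ wList, ∀ v ∈ wList, v ≠ 0 → v ≠ w →
    ∃ e ∈ wList, ∃ a ∈ wList, qf e = 0 ∧ bf e a = 0 ∧ sm e a w = w ∧ sm e a v ≠ v := by decide +kernel

/-- Indexed vectors of the complement. -/
def wAt (i : ℕ) : M6 := wList.getD i 0

/-- Pairs of Siegel maps carrying the standard elliptic pair to all others. -/
def pairTable : List (ℕ × ℕ × ℕ × ℕ) := [
  (0, 0, 0, 0), (0, 0, 4, 1), (0, 0, 4, 2), (0, 0, 4, 3), (0, 0, 8, 1), (0, 0, 8, 2),
   (0, 0, 8, 3), (0, 0, 13, 1), (0, 0, 13, 6), (0, 0, 13, 7), (0, 0, 14, 2), (0, 0, 14, 5),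
   (0, 0, 14, 7), (0, 0, 15, 3), (0, 0, 15, 5), (0, 0, 15, 6), (4, 1, 8, 1), (4, 1, 8, 2),
   (4, 1, 8, 3), (4, 1, 13, 1), (4, 1, 13, 6), (4, 1, 13, 7), (4, 1, 14, 2), (4, 1, 14, 5),
   (4, 1, 14, 7), (4, 1, 15, 3), (4, 1, 15, 5), (4, 1, 15, 6), (4, 2, 8, 1), (4, 2, 8, 2),
   (4, 2, 8, 3), (4, 2, 13, 1), (4, 2, 13, 6), (4, 2, 13, 7), (4, 2, 14, 2), (4, 2, 14, 5),
   (4, 2, 14, 7), (4, 2, 15, 3), (4, 2, 15, 5), (4, 2, 15, 6), (4, 3, 8, 1), (4, 3, 8, 2),
   (4, 3, 8, 3), (4, 3, 13, 1), (4, 3, 13, 6), (4, 3, 13, 7), (4, 3, 14, 2), (4, 3, 14, 5),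
   (4, 3, 14, 7), (4, 3, 15, 3), (4, 3, 15, 5), (4, 3, 15, 6), (8, 1, 14, 7), (8, 1, 15, 6),
   (8, 2, 13, 7), (8, 2, 15, 5), (8, 3, 13, 6), (8, 3, 14, 5), (13, 1, 14, 2), (13, 1, 15, 3)]

theorem pairTable_ok : ∀ r ∈ pairTable,
    qf (wAt r.1) = 0 ∧ bf (wAt r.1) (wAt r.2.1) = 0 ∧ qf (wAt r.2.2.1) = 0 ∧
      bf (wAt r.2.2.1) (wAt r.2.2.2) = 0 ∧ r.1 < 16 ∧ r.2.1 < 16 ∧ r.2.2.1 < 16 ∧ r.2.2.2 < 16 := by
  decide +kernel

/-- The images of the standard pair. -/
def pairImages : List (M6 × M6) := pairTable.map fun r =>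
  (sm (wAt r.1) (wAt r.2.1) (sm (wAt r.2.2.1) (wAt r.2.2.2) w2),
   sm (wAt r.1) (wAt r.2.1) (sm (wAt r.2.2.1) (wAt r.2.2.2) v2))

theorem pairImages_all : ∀ w ∈ wList, ∀ v ∈ wList, qf w = 1 → qf v = 1 → bf w v = 1 →
    (w, v) ∈ pairImages := by
  decide +kernel

theorem wList_length : wList.length = 16 := by decide +kernel

theorem wAt_mem {i : ℕ} (h : i < 16) : wAt i ∈ wList := by
  rw [wAt, List.getD_eq_getElem _ _ (by rw [wList_length]; exact h)]
  exact List.getElem_mem _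

theorem pairs_transitive {w v : M6} (hw : w ∈ wList) (hv : v ∈ wList) (h1 : qf w = 1) (h2 : qf v = 1)
    (h3 : bf w v = 1) :
    ∃ e ∈ wList, ∃ a ∈ wList, ∃ e' ∈ wList, ∃ a' ∈ wList, qf e = 0 ∧ bf e a = 0 ∧ qf e' = 0 ∧
      bf e' a' = 0 ∧ sm e a (sm e' a' w2) = w ∧ sm e a (sm e' a' v2) = v := by
  obtain ⟨r, hr, e⟩ := List.mem_map.1 (pairImages_all w hw v hv h1 h2 h3)
  obtain ⟨c1, c2, c3, c4, l1, l2, l3, l4⟩ := pairTable_ok r hr
  rw [Prod.mk.injEq] at e
  exact ⟨_, wAt_mem l1, _, wAt_mem l2, _, wAt_mem l3, _, wAt_mem l4, c1, c2, c3, c4, e.1, e.2⟩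

theorem singular_orth : ∀ w ∈ wList, ∀ v ∈ wList, w ≠ 0 → qf w = 0 → qf v = 0 → bf w v = 0 →
    v = 0 ∨ v = w := by decide +kernel

theorem pair_facts : w2 ∈ wList ∧ v2 ∈ wList ∧ qf w2 = 1 ∧ qf v2 = 1 ∧ bf w2 v2 = 1 := by decide +kernel

theorem exists_dual : ∀ w ∈ wList, w ≠ 0 → ∃ v ∈ wList, bf w v = 1 := by decide +kernel

theorem span_pair : ∀ w ∈ wList, ∀ v ∈ wList, qf w = 1 → qf v = 1 → bf w v = 1 → ∀ s t : ZMod 2,
    ∃ k ∈ wList, bf w k = s ∧ bf v k = t := by decide +kernel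

/-! ### The radical of the point stabiliser -/

/-- An element of the radical. -/
def uMap (w m : M6) : M6 := m + bf (m + bf m e0 • f0) w • e0 + bf m e0 • w

/-- The admissible parameters. -/
def Adm (w : M6) : Prop := bf w e0 = 0 ∧ qf w = bf f0 w

instance (w : M6) : Decidable (Adm w) := by unfold Adm; infer_instance

theorem card_adm : Nat.card {w : M6 // Adm w} = 16 := by
  rw [Nat.card_eq_fintype_card, Fintype.card_subtype]
  decide +kernel

theorem radical_eq {g : O6} (he : g.1 e0 = e0)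
    (ht : ∀ m, bf m e0 = 0 → g.1 m + m = 0 ∨ g.1 m + m = e0) :
    Adm (g.1 f0 + f0) ∧ ∀ m, g.1 m = uMap (g.1 f0 + f0) m := by
  obtain ⟨w, hw⟩ : ∃ w, w = g.1 f0 + f0 := ⟨_, rfl⟩
  rw [← hw]
  have hgf : g.1 f0 = f0 + w := by rw [hw, add_comm, add_assoc, add_self, add_zero]
  have hwe : bf w e0 = 0 := by
    rw [hw, bf_add_left]
    conv_lhs => arg 1; rw [← he]
    rw [bf_oGroup]
    exact CharTwo.add_self_eq_zero _
  refine ⟨⟨hwe, ?_⟩, fun m => ?_⟩
  · have h := qf_oGroup g f0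
    rw [hgf, qf_add, base_facts.2.1, zero_add] at h
    exact CharTwo.add_eq_zero.1 h
  · set c := bf m e0
    set m' := m + c • f0 with hm'
    have hm'e : bf m' e0 = 0 := by
      rw [hm', bf_add_left, bf_smul_left, b_fe, mul_one]
      exact CharTwo.add_self_eq_zero _
    have hgm' : g.1 m' = m' + bf m' w • e0 := by
      obtain ⟨l, hl⟩ : ∃ l : ZMod 2, g.1 m' = m' + l • e0 := by
        rcases ht m' hm'e with h | h
        · exact ⟨0, by rw [zero_smul, add_zero]; exact add_right_cancel (h.trans (add_self m').symm)⟩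
        · refine ⟨1, ?_⟩
          rw [one_smul, ← h, add_comm, add_assoc, add_self, add_zero]
      have h := bf_oGroup g m' f0
      rw [hl, hgf, bf_add_left, bf_add_right, bf_smul_left, bf_add_right, b_ef, bf_comm e0 w, hwe,
        add_zero, mul_one] at h
      have : l = bf m' w := by
        rcases zmod2_cases l with a | a <;> rcases zmod2_cases (bf m' w) with b | b <;>
          rw [a, b] at h ⊢ <;> revert h <;> generalize bf m' f0 = x <;> revert x <;> decide
      rw [hl, this]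
    have hmm : m = m' + c • f0 := by rw [hm', add_assoc, add_self, add_zero]
    conv_lhs => rw [hmm, map_add, map_smul, hgm', hgf, smul_add]
    rw [uMap]
    show m' + bf m' w • e0 + (c • f0 + c • w) = m + bf m' w • e0 + c • w
    rw [hmm]
    abel

theorem uMap_f0 {w : M6} : uMap w f0 + f0 = w := by
  rw [uMap, b_fe, one_smul, add_self, bf_zero_left, zero_smul, add_zero, one_smul, add_comm,
    ← add_assoc, add_self, zero_add]

/-- Totally singular displacement. -/
def TS (g : O6) : Prop := ∀ m, qf (g.1 m + m) = 0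

theorem ts_conj (g h : O6) (hg : TS g) : TS (h * g * h⁻¹) := by
  intro m
  have e : (h * g * h⁻¹).1 m + m = h.1 (g.1 ((h⁻¹).1 m) + (h⁻¹).1 m) := by
    rw [map_add]
    congr 1
    show m = (h * h⁻¹).1 m
    rw [mul_inv_cancel]; rfl
  rw [e, qf_oGroup, hg]

theorem ts_uMap {g : O6} {w : M6} (hw : bf w e0 = 0) (hg : ∀ m, g.1 m = uMap w m) :
    TS g ↔ qf w = 0 := by
  have key : ∀ m, g.1 m + m = bf (m + bf m e0 • f0) w • e0 + bf m e0 • w := fun m => by
    rw [hg, uMap]
    abel_nf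
    simp [two_smul, add_self]
  constructor
  · intro h
    have := h f0
    rw [key, b_fe, one_smul, add_self, bf_zero_left, zero_smul, zero_add, one_smul] at this
    exact this
  · intro h m
    rw [key, qf_add]
    generalize bf (m + bf m e0 • f0) w = A
    generalize bf m e0 = B
    rcases zmod2_cases A with a | a <;> rcases zmod2_cases B with b | b <;>
      simp [a, b, h, q_e0, bf_zero_left, bf_zero_right, bf_comm e0 w, hw, show qf 0 = 0 from by decide +kernel]

theorem exists_axis {g : O6} (hg : g ∈ commutator (oGroup q6)) (hg2 : g * g = 1) (hg1 : g ≠ 1) :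
    ∃ e, e ≠ 0 ∧ qf e = 0 ∧ g.1 e = e ∧ ∀ m, bf m e = 0 → g.1 m + m = 0 ∨ g.1 m + m = e := by
  set T : M6 →ₗ[ZMod 2] M6 := g.1.toLinearMap + LinearMap.id
  have hT : ∀ m, T m = g.1 m + m := fun m => rfl
  have hgg : ∀ m, g.1 (g.1 m) = m := fun m => by
    show (g * g).1 m = m
    rw [hg2]; rfl
  have hsym : ∀ m n, bf (T m) n = bf m (T n) := fun m n => by
    have h : bf (g.1 m) n = bf m (g.1 n) := by
      conv_rhs => rw [← bf_oGroup g, hgg]
    rw [hT, hT, bf_add_left, bf_add_right, h]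
  have hTT : ∀ m, g.1 (T m) = T m := fun m => by rw [hT, map_add, hgg, add_comm]
  have hfix : fixSp g = LinearMap.ker T := by
    ext m
    rw [mem_fixSp, LinearMap.mem_ker, hT]
    constructor
    · intro h; rw [h, add_self]
    · intro h; exact add_right_cancel (h.trans (add_self m).symm)
  have hev : Even (6 + Module.finrank (ZMod 2) (LinearMap.ker T)) := by
    have h := (mem_commutator_iff_fixSp nondeg6 hgen6 g).1 hg
    rwa [hfix, show Module.finrank (ZMod 2) M6 = 6 by simp] at h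
  have hsum := LinearMap.finrank_range_add_finrank_ker T
  rw [show Module.finrank (ZMod 2) M6 = 6 by simp] at hsum
  have hle : LinearMap.range T ≤ LinearMap.ker T := by
    rintro _ ⟨m, rfl⟩
    rw [LinearMap.mem_ker, hT (T m), hTT, add_self]
  have hmono := Submodule.finrank_mono hle
  have hr0 : Module.finrank (ZMod 2) (LinearMap.range T) ≠ 0 := by
    intro h0
    rw [Submodule.finrank_eq_zero, LinearMap.range_eq_bot] at h0
    refine hg1 (Subtype.ext (LinearEquiv.ext fun m => ?_))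
    have : g.1 m + m = 0 := by rw [← hT, h0]; rfl
    exact add_right_cancel (this.trans (add_self m).symm)
  have hr2 : Module.finrank (ZMod 2) (LinearMap.range T) = 2 := by
    obtain ⟨k, hk⟩ := hev
    omega
  have hc4 : Nat.card (LinearMap.range T) = 4 := by
    rw [Module.natCard_eq_pow_finrank (K := ZMod 2), hr2, Nat.card_zmod]; norm_num
  have hlin : ∀ m n, qf (T m + T n) = qf (T m) + qf (T n) := fun m n => by
    rw [qf_add, hsym, hT (T n), hTT, add_self, bf_zero_right, add_zero]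
  obtain ⟨x, hx0, hxq⟩ : ∃ x, T x ≠ 0 ∧ qf (T x) = 0 := by
    by_contra hcon
    push Not at hcon
    haveI := Fintype.ofFinite (LinearMap.range T)
    obtain ⟨⟨_, a, rfl⟩, ha⟩ := Fintype.exists_ne_of_one_lt_card
      (by rw [← Nat.card_eq_fintype_card, hc4]; norm_num) (0 : LinearMap.range T)
    classical
    obtain ⟨⟨_, b, rfl⟩, hb⟩ : ∃ y : LinearMap.range T,
        y ∉ ({0, ⟨T a, a, rfl⟩} : Finset (LinearMap.range T)) := by
      by_contra hall
      push Not at hall
      have h1 := Finset.card_le_card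
        (fun y _ => hall y : (Finset.univ : Finset (LinearMap.range T)) ⊆ {0, ⟨T a, a, rfl⟩})
      have h2 : ({0, ⟨T a, a, rfl⟩} : Finset (LinearMap.range T)).card ≤ 2 := Finset.card_le_two
      rw [Finset.card_univ, ← Nat.card_eq_fintype_card, hc4] at h1
      omega
    rw [Finset.mem_insert, Finset.mem_singleton, not_or] at hb
    obtain ⟨hb1, hb2⟩ := hb
    have ha' : T a ≠ 0 := fun e => ha (Subtype.ext e)
    have hb' : T b ≠ 0 := fun e => hb1 (Subtype.ext e)
    have hab : T (a + b) ≠ 0 := fun e => hb2 (Subtype.ext (by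
      rw [map_add] at e
      exact (add_left_cancel (e.trans (add_self (T a)).symm))))
    have h := hlin a b
    rw [(zmod2_cases _).resolve_left (hcon a ha'), (zmod2_cases _).resolve_left (hcon b hb'),
      ← map_add, (zmod2_cases _).resolve_left (hcon _ hab)] at h
    exact absurd h (by decide)
  refine ⟨T x, hx0, hxq, hTT x, fun m hm => ?_⟩
  by_contra hcon
  push Not at hcon
  rw [← hT] at hcon
  set S : Finset M6 := {0, T x, T m, T x + T m} with hS
  have hne3 : T x + T m ≠ 0 := fun e => hcon.2 (add_left_cancel (e.trans (add_self (T x)).symm))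
  have hSc : S.card = 4 := by
    rw [hS, Finset.card_insert_of_notMem, Finset.card_insert_of_notMem, Finset.card_insert_of_notMem,
      Finset.card_singleton] <;> simp [hx0.symm, hcon.1.symm, hne3.symm, Ne.symm hcon.2, hcon.1, hx0]
  have hall : ∀ n, T n ∈ S := by
    have hsub : (S : Set M6) ⊆ (LinearMap.range T : Set M6) := by
      intro y hy
      simp only [hS, Finset.coe_insert, Finset.coe_singleton, Set.mem_insert_iff, Set.mem_singleton_iff] at hy
      rcases hy with rfl | rfl | rfl | rfl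
      exacts [zero_mem _, ⟨x, rfl⟩, ⟨m, rfl⟩, ⟨x + m, map_add T x m⟩]
    have heq := Set.eq_of_subset_of_ncard_le hsub (by
      rw [Set.ncard_coe_finset, hSc, ← Nat.card_coe_set_eq]
      exact hc4.le)
    intro n
    have : T n ∈ (S : Set M6) := heq ▸ ⟨n, rfl⟩
    exact this
  have hbx : bf x (T x) = 0 := by
    have h := qf_oGroup g x
    rw [show g.1 x = T x + x by rw [hT, add_assoc, add_self, add_zero], qf_add, hxq, zero_add] at h
    rw [bf_comm]
    exact add_eq_left.1 h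
  have hbm : bf x (T m) = 0 := by rw [← hsym, bf_comm, hm]
  refine hx0 (eq_zero_of_bf fun n => ?_)
  rw [hsym]
  have := hall n
  simp only [hS, Finset.mem_insert, Finset.mem_singleton] at this
  rcases this with e | e | e | e <;> rw [e]
  exacts [bf_zero_right x, hbx, hbm, by rw [bf_add_right, hbx, hbm, add_zero]]

/-! ### The pointwise stabiliser of a three-dimensional space -/

/-- A vector of the hyperbolic plane inside. -/
def k1 : M6 := mkW 1 0 0 0

/-- Its partner. -/
def k2 : M6 := mkW 0 1 0 0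

/-- The pointwise stabiliser. -/
def fixK : Subgroup O6 where
  carrier := {g | g.1 e0 = e0 ∧ g.1 k1 = k1 ∧ g.1 k2 = k2}
  one_mem' := ⟨rfl, rfl, rfl⟩
  mul_mem' := by
    rintro a b ⟨a1, a2, a3⟩ ⟨b1, b2, b3⟩
    refine ⟨?_, ?_, ?_⟩
    · show a.1 (b.1 e0) = e0; rw [b1, a1]
    · show a.1 (b.1 k1) = k1; rw [b2, a2]
    · show a.1 (b.1 k2) = k2; rw [b3, a3]
  inv_mem' := by
    rintro a ⟨a1, a2, a3⟩
    refine ⟨?_, ?_, ?_⟩
    · conv_lhs => rw [← a1]
      exact a.1.symm_apply_apply e0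
    · conv_lhs => rw [← a2]
      exact a.1.symm_apply_apply k1
    · conv_lhs => rw [← a3]
      exact a.1.symm_apply_apply k2

/-- Candidates for the image of the partner of the point. -/
def candF : List M6 := (wList.map fun w => f0 + w) ++ (wList.map fun w => f0 + e0 + w)

/-- Candidates for the images of the elliptic line. -/
def candW : List M6 := wList ++ wList.map (e0 + ·)

theorem cand_mem : ∀ x : M6, (bf x e0 = 1 → x ∈ candF) ∧ (bf x e0 = 0 → x ∈ candW) := by decide +kernel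

/-- The admissible triples. -/
def triples : List (M6 × M6 × M6) :=
  (candF.filter fun x => qf x = 0 ∧ bf x k1 = 0 ∧ bf x k2 = 0).flatMap fun x =>
    (candW.filter fun y => qf y = 1 ∧ bf y k1 = 0 ∧ bf y k2 = 0 ∧ bf x y = 0).flatMap fun y =>
      (candW.filter fun y' => qf y' = 1 ∧ bf y' k1 = 0 ∧ bf y' k2 = 0 ∧ bf x y' = 0 ∧ bf y y' = 1).map
        fun y' => (x, y, y')

theorem triples_length : triples.length = 24 := by decide +kernel

theorem basis_expand : ∀ m : M6,
    m = bf m f0 • e0 + bf m e0 • f0 + bf m k2 • k1 + bf m k1 • k2 + bf m v2 • w2 + bf m w2 • v2 := by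
  decide +kernel

theorem base_orth : bf f0 k1 = 0 ∧ bf f0 k2 = 0 ∧ bf f0 w2 = 0 ∧ bf f0 v2 = 0 ∧ bf w2 k1 = 0 ∧
    bf w2 k2 = 0 ∧ bf v2 k1 = 0 ∧ bf v2 k2 = 0 ∧ bf w2 e0 = 0 ∧ bf v2 e0 = 0 ∧ bf e0 k1 = 0 ∧
    bf e0 k2 = 0 ∧ k1 ≠ 0 := by decide +kernel

theorem card_fixK_le : Nat.card fixK ≤ 24 := by
  classical
  have hmem : ∀ g : fixK, (g.1.1 f0, g.1.1 w2, g.1.1 v2) ∈ triples := by
    rintro ⟨g, h1, h2, h3⟩
    obtain ⟨o1, o2, o3, o4, o5, o6, o7, o8, o9, o10, -, -, -⟩ := base_orth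
    have hb : ∀ u, bf (g.1 u) e0 = bf u e0 := fun u => by conv_lhs => rw [← h1, bf_oGroup]
    have hk1 : ∀ u, bf (g.1 u) k1 = bf u k1 := fun u => by conv_lhs => rw [← h2, bf_oGroup]
    have hk2 : ∀ u, bf (g.1 u) k2 = bf u k2 := fun u => by conv_lhs => rw [← h3, bf_oGroup]
    simp only [triples, List.mem_flatMap, List.mem_filter, List.mem_map, decide_eq_true_eq, Prod.mk.injEq]
    refine ⟨_, ⟨(cand_mem _).1 (by rw [hb, b_fe]), ?_, ?_, ?_⟩, _, ⟨(cand_mem _).2 (by rw [hb, o9]), ?_, ?_, ?_, ?_⟩,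
      _, ⟨(cand_mem _).2 (by rw [hb, o10]), ?_, ?_, ?_, ?_, ?_⟩, rfl, rfl, rfl⟩
    all_goals simp only [qf_oGroup, hk1, hk2, bf_oGroup, o1, o2, o3, o4, o5, o6, o7, o8, base_facts.2.1,
      pair_facts.2.2.1, pair_facts.2.2.2.1, pair_facts.2.2.2.2]
  have hinj : Function.Injective fun g : fixK =>
      (⟨_, List.mem_toFinset.2 (hmem g)⟩ : {t // t ∈ triples.toFinset}) := by
    rintro ⟨g, g1, g2, g3⟩ ⟨h, h1, h2, h3⟩ e
    obtain ⟨e1, e2, e3⟩ : g.1 f0 = h.1 f0 ∧ g.1 w2 = h.1 w2 ∧ g.1 v2 = h.1 v2 := by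
      simpa using e
    refine Subtype.ext (Subtype.ext (LinearEquiv.ext fun m => ?_))
    show g.1 m = h.1 m
    rw [basis_expand m]
    simp only [map_add, map_smul, g1, g2, g3, h1, h2, h3, e1, e2, e3]
  refine le_trans (Nat.card_le_card_of_injective _ hinj) ?_
  rw [Nat.card_eq_fintype_card, Fintype.card_coe]
  exact le_trans (List.toFinset_card_le _) triples_length.le

theorem sixteen_not_dvd_fixK : ¬ 16 ∣ Nat.card fixK := by
  classical
  haveI : Finite O6 := Finite.of_injective (fun g : O6 => (g.1 : M6 → M6))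
    fun g h e => Subtype.ext (LinearEquiv.ext fun v => congrFun e v)
  obtain ⟨-, -, -, -, o5, o6, o7, o8, o9, o10, -, -, -⟩ := base_orth
  have hfix : ∀ d : M6, bf d e0 = 0 → bf d k1 = 0 → bf d k2 = 0 → refl q6 d ∈ fixK := by
    intro d d1 d2 d3
    have hr : ∀ x : M6, bf d x = 0 → (refl q6 d).1 x = x := fun x hx => by
      rw [refl_apply, polar_eq, bf_comm, hx, mul_zero, zero_smul, add_zero]
    exact ⟨hr _ d1, hr _ d2, hr _ d3⟩
  set t : fixK := ⟨refl q6 w2 * refl q6 v2, mul_mem (hfix _ o9 o5 o6) (hfix _ o10 o7 o8)⟩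
  have hrefl : ∀ d x : M6, qf d = 1 → (refl q6 d).1 x = x + bf x d • d := fun d x hd => by
    rw [refl_apply, polar_eq, q6_eq, hd]
    congr 2
    rw [inv_one, show (-1 : ZMod 2) = 1 by decide, one_mul]
  have ht : ∀ x, t.1.1 x = (x + bf x v2 • v2) + bf (x + bf x v2 • v2) w2 • w2 := fun x => by
    show (refl q6 w2).1 ((refl q6 v2).1 x) = _
    rw [hrefl v2 x pair_facts.2.2.2.1, hrefl w2 _ pair_facts.2.2.1]
  have hcube : ∀ x : M6,
      (let f := fun x : M6 => (x + bf x v2 • v2) + bf (x + bf x v2 • v2) w2 • w2; f (f (f x))) = x := by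
    decide +kernel
  have ht3 : t ^ 3 = 1 := by
    refine Subtype.ext (Subtype.ext (LinearEquiv.ext fun x => ?_))
    show t.1.1 (t.1.1 (t.1.1 x)) = x
    rw [ht, ht, ht]
    exact hcube x
  have ht1 : t ≠ 1 := fun e => by
    have h := ht w2
    rw [e] at h
    revert h
    show w2 = _ → False
    decide +kernel
  haveI : Fact (Nat.Prime 3) := ⟨Nat.prime_three⟩
  have h3 : 3 ∣ Nat.card fixK := orderOf_eq_prime ht3 ht1 ▸ orderOf_dvd_natCard t
  intro h16
  have h48 : 48 ∣ Nat.card fixK := Nat.Coprime.mul_dvd_of_dvd_of_dvd (by norm_num : Nat.Coprime 16 3) h16 h3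
  have := card_fixK_le
  have hpos : 0 < Nat.card fixK := Nat.card_pos
  have := Nat.le_of_dvd hpos h48
  omega

end CfsgLib.SuzInvol
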